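import Mathlib
import Cfsg.Agent.Lib.AltE7.Fac

/-!
Tables for the 56-dimensional module.
-/

set_option autoImplicit false
set_option linter.unusedSectionVars false

namespace H5.AE

open Module Polynomial H82.AG H38 H5.E8T

/-- Columns. -/
def C72 (j : ℕ) : ℕ := [0x10001010101010101010101010000000000000000000000000000000000000000010101010101010101010100010000000000, 0x1010101000000000101000000000000000001010101010101010101010100000000000000000101000000000101010100000000, 0x1010101000000000000010101010101010100000000000000000000000001010101010101010000000000000101010100000000, 0x101000001010000000001010000000001010101010100000000000001010101010100000000010100000000010100000101000000, 0x10100000000010100000000010100000101000000010101010000010101010000000101000001010000000001010000000001010000, 0x1010000000000000101000000000101000001010001010000010101010000010100010100000101000000000101000000000000010100, 0x101000000000000000001010000000001010000010100010101010000010101010001010000010100000000010100000000000000000101].getD j 0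

/-- Columns. -/
def C75 (j : ℕ) : ℕ := [0x10001010101010404040404040000000000000000000000000000000000000000010101010101040404040400040000000000, 0x1010404000000000104000000000000000001010101010104040404040400000000000000000104000000000101040400000000, 0x1040104000000000000010101010404040400000000000000000000000001010101040404040000000000000104010400000000, 0x104000001040000000001040000000001010104040400000000000001010104040400000000010400000000010400000104000000, 0x10400000000010400000000010400000104000000010104040000010104040000000104000001040000000001040000000001040000, 0x1040000000000000104000000000104000001040001040000010401040000010400010400000104000000000104000000000000010400, 0x104000000000000000001040000000001040000010400010401040000010401040001040000010400000000010400000000000000000104].getD j 0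

/-- Columns. -/
def C77 (j : ℕ) : ℕ := [0x10001010101010606060606060000000000000000000000000000000000000000010101010101060606060600060000000000, 0x1010606000000000106000000000000000001010101010106060606060600000000000000000106000000000101060600000000, 0x1060106000000000000010101010606060600000000000000000000000001010101060606060000000000000106010600000000, 0x106000001060000000001060000000001010106060600000000000001010106060600000000010600000000010600000106000000, 0x10600000000010600000000010600000106000000010106060000010106060000000106000001060000000001060000000001060000, 0x1060000000000000106000000000106000001060001060000010601060000010600010600000106000000000106000000000000010600, 0x106000000000000000001060000000001060000010600010601060000010601060001060000010600000000010600000000000000000106].getD j 0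

lemma C72_ok : colOk T56 56 7 (1 + 1) C72 = true := by decide +kernel
lemma C75_ok : colOk T56 56 7 (4 + 1) C75 = true := by decide +kernel
lemma C77_ok : colOk T56 56 7 (6 + 1) C77 = true := by decide +kernel

lemma span56 : spanOk T56 56 7 [34, 4, 46, 2, 55, 3, 1] [[0, 0, 1, -1, 0, 0, 0], [1, -1, 0, 0, 1, 0, 0], [-1, 0, 0, -1, 0, -1, -1], [0, 0, 0, -1, 1, -1, -1], [0, 0, 0, -1, 1, 0, -1], [0, 0, 0, 0, 1, 0, -1], [0, 0, 0, 0, 1, 0, 0]] = true := by
  decide +kernel

lemma chk72 : allV (1 + 1) C72 (fun P => P == 0 || frc (hs 56 (1 + 1) id P) fun d => d == 24 || d == 32 || d == 56) 7 0 =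
    true := by decide +kernel

/-- The invariant quadratic form. -/
def q7 (m a b c d e f g : ℕ) : ℕ := Nat.add (Nat.add (Nat.add (Nat.add (Nat.mul a a) (Nat.mul b b))
  (Nat.add (Nat.mul c c) (Nat.mul d d))) (Nat.add (Nat.add (Nat.mul e e) (Nat.mul f f)) (Nat.mul g g)))
    (Nat.mul m (Nat.add (Nat.add (Nat.mul a c) (Nat.mul d (Nat.add b (Nat.add c e)))) (Nat.mul f (Nat.add e g))))

/-- Digits of a histogram. -/
def hg6 (s : ℕ) : ℕ := Nat.shiftRight (Nat.shiftLeft 1 (Nat.mul 6 s)) 1

/-- The test for rational elements. -/
def G7 (m r S : ℕ) (C : ℕ → ℕ) (ok : ℕ → Bool) (a b c d e f g : ℕ) : Bool :=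
  cond (Nat.beq (Nat.mod (q7 m a b c d e f g) r) 0)
    (frc (Nat.add (Nat.add (Nat.add (Nat.add (Nat.add (Nat.add (Nat.mul a (C 0)) (Nat.mul b (C 1))) (Nat.mul c (C 2)))
      (Nat.mul d (C 3))) (Nat.mul e (C 4))) (Nat.mul f (C 5))) (Nat.mul g (C 6))) fun P =>
      frc (hs 56 r hg6 P) fun H => cond (Nat.beq (Nat.mod H S) 0) (ok (Nat.div H S)) true) true

/-- All vectors with first non-zero coordinate one. -/
def scan7 (r : ℕ) (G : ℕ → ℕ → ℕ → ℕ → ℕ → ℕ → ℕ → Bool) : Bool :=
  (allLt r fun g => (allLt r fun f => (allLt r fun e => (allLt r fun d => (allLt r fun c => (allLt r fun b =>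
    G 1 b c d e f g) && G 0 1 c d e f g) && G 0 0 1 d e f g) && G 0 0 0 1 e f g) && G 0 0 0 0 1 f g) &&
      G 0 0 0 0 0 1 g) && G 0 0 0 0 0 0 1

lemma scan7_spec {r : ℕ} {G : ℕ → ℕ → ℕ → ℕ → ℕ → ℕ → ℕ → Bool} (h : scan7 r G = true) {v : Fin 7 → ℕ}
    (hv : ∀ j, v j < r) {j : Fin 7} (h1 : v j = 1) (h0 : ∀ i < j, v i = 0) :
    G (v 0) (v 1) (v 2) (v 3) (v 4) (v 5) (v 6) = true := by
  simp only [scan7, allLt_iff, Bool.and_eq_true] at h
  have c6 := h.1 _ (hv 6)
  have c5 := c6.1 _ (hv 5)
  have c4 := c5.1 _ (hv 4)
  have c3 := c4.1 _ (hv 3)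
  have c2 := c3.1 _ (hv 2)
  fin_cases j
  · exact (show v 0 = 1 from h1) ▸ c2.1 _ (hv 1)
  · rw [show v 1 = 1 from h1, h0 0 (by decide)]; exact c2.2
  · rw [show v 2 = 1 from h1, h0 0 (by decide), h0 1 (by decide)]; exact c3.2
  · rw [show v 3 = 1 from h1, h0 0 (by decide), h0 1 (by decide), h0 2 (by decide)]; exact c4.2
  · rw [show v 4 = 1 from h1, h0 0 (by decide), h0 1 (by decide), h0 2 (by decide), h0 3 (by decide)]; exact c5.2
  · rw [show v 5 = 1 from h1, h0 0 (by decide), h0 1 (by decide), h0 2 (by decide), h0 3 (by decide),
      h0 4 (by decide)]; exact c6.2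
  · rw [show v 6 = 1 from h1, h0 0 (by decide), h0 1 (by decide), h0 2 (by decide), h0 3 (by decide),
      h0 4 (by decide), h0 5 (by decide)]; exact h.2

lemma chk75 : scan7 (4 + 1) (G7 4 (4 + 1) 8521760 C75 (Nat.ble 9)) = true := by decide +kernel

lemma chk77 : scan7 (6 + 1) (G7 6 (6 + 1) 34905131040 C77 fun m => m == 6 || Nat.ble 8 m) = true := by decide +kernel

/-- The Gram matrix. -/
def gm7 : Fin 7 → Fin 7 → ℤ := ![![24, 0, -12, 0, 0, 0, 0], ![0, 24, 0, -12, 0, 0, 0], ![-12, 0, 24, -12, 0, 0, 0],
  ![0, -12, -12, 24, -12, 0, 0], ![0, 0, 0, -12, 24, -12, 0], ![0, 0, 0, 0, -12, 24, -12], ![0, 0, 0, 0, 0, -12, 24]]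

lemma gram7 : ∀ j j' : Fin 7, ∑ i : Fin 56, lam T56 (7 * i + j) * lam T56 (7 * i + j') = gm7 j j' := by decide +kernel

end H5.AE
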