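import Mathlib
import Cfsg.Agent.Lib.AltE6.Lie
import Cfsg.Agent.Lib.Weyl.PoinWE8

/-!
The 56-dimensional module of the Steinberg group of type `E₇` and the adjoint module of type `E₈`.
-/

set_option autoImplicit false
set_option linter.unusedSectionVars false

namespace H5.AE

open H37 H38 Cfsg Cfsg.Lie Polynomial H5.E8T Module

universe u

/-- The characteristic polynomial of a torus element, the weights being given by a table. -/
noncomputable def cpW {k : Type*} [Field k] (T N : ℕ) {n : ℕ} (c : Fin n → kˣ) : k[X] :=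
  ∏ i : Fin N, (Polynomial.X - Polynomial.C ((∏ j, c j ^ lam T (n * i + j) : kˣ) : k))

/-- A representation with the eigenvalues and ranks of a subgroup of a group of Lie type. -/
structure RT (p T N n a : ℕ) {k V H : Type*} [Field k] [AddCommGroup V] [Module k V] [FiniteDimensional k V] [Group H]
    (ρ : H →* End k V) : Prop where
  dim : finrank k V = N
  eig : ∀ r : ℕ, r.Prime → r ≠ p → ∀ t : H, t ^ r = 1 → t ≠ 1 →
    ∃ c : Fin n → kˣ, c ≠ 1 ∧ c ^ r = 1 ∧ (ρ t).charpoly = cpW T N c
  rk : ∀ l : ℕ, l.Prime → l ≠ p → l ≠ 2 → ∀ E : Subgroup H, (∀ a ∈ E, ∀ b ∈ E, a * b = b * a) →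
    (∀ a ∈ E, a ^ l = 1) → Nat.card E ≤ l ^ a

section Gen

variable {D : ChevalleyDatum} (hD : D ∈ Tabs) (R : RootSys D) (h78 : D = chevE7 ∨ D = chevE8)
include h78

lemma torI (K : Type*) [Field K] : Function.Injective (Elts.tor (ES_R3 hD R K)) := by
  rcases h78 with rfl | rfl
  exacts [tor_st_injective_E7 (isMat hD R K), tor_st_injective hD R smithE8]

include hD

lemma sm_inj' {K k : Type*} [Field K] [Field k] (f : K →+* k) : Function.Injective (sm R f) :=
  (injective_iff_map_eq_one _).2 fun g hg => by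
    have h1 := th_sm hD R f g
    rw [hg, map_one, eq_comm, map_eq_one_iff _ (fm_injective hD f), ← map_one (th hD R K)] at h1
    obtain ⟨z, hz, -, e⟩ := exists_central hD R h1
    obtain ⟨c, rfl⟩ := exists_tor (ES_R3 hD R K) hz
    rw [e, one_mul, (sm_fhom hD R f).tor _ (ES_R3 hD R k), map_eq_one_iff _ (torI hD R h78 k)] at hg
    rw [e, one_mul, show c = 1 from funext fun i => Units.ext (f.injective (by
      simpa using congrArg Units.val (congrFun hg i))), map_one]

theorem conj_tor {p : ℕ} [Fact p.Prime] {k : Type u} [Field k] [IsAlgClosed k] [CharP k p] (hk : LocFin k p) {r : ℕ}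
    (hr : r.Prime) (hrp : r ≠ p) {t : D.SteinbergGroup k} (ht : t ^ r = 1) (h1 : t ≠ 1) :
    ∃ (g : D.SteinbergGroup k) (c : Fin D.rank → kˣ), c ≠ 1 ∧ c ^ r = 1 ∧ Elts.tor (ES_R3 hD R k) c = g⁻¹ * t * g := by
  obtain ⟨g, -, hg⟩ := exists_conj_H_primePow (hD := hD) (R := R) hk isSub_univ hr hrp (a := 1)
    (t := th hD R k t) (EG_BS_univ hD R k ▸ trivial) (by rw [pow_one, ← map_pow, ht, map_one])
  obtain ⟨c, hc⟩ := exists_tor (EG_R3 hD R k) hg
  obtain ⟨g, rfl⟩ := (isMat hD R k).θ_surjective g
  obtain ⟨z, hz, -, e⟩ := exists_central hD R (a := g⁻¹ * t * g) (b := Elts.tor (ES_R3 hD R k) c) (by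
    rw [th_tor, hc, map_mul, map_mul, map_inv]; rfl)
  obtain ⟨c', hc'⟩ := exists_tor (ES_R3 hD R k) (mul_mem (tor_mem (ES_R3 hD R k) c) hz)
  rw [← e] at hc'
  refine ⟨g, c', fun h => h1 ?_, torI hD R h78 k ?_, hc'⟩
  · rw [h] at hc'
    rw [show t = g * (g⁻¹ * t * g) * g⁻¹ by group, ← hc']
    exact mul_inv_eq_one.2 (mul_eq_left.2 (map_one _))
  · refine (map_pow _ c' r).trans (Eq.trans ?_ (map_one _).symm)
    rw [hc', show g⁻¹ * t * g = g⁻¹ * t * g⁻¹⁻¹ by rw [inv_inv], conj_pow, ht]; group

include R in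
lemma fin_st' (K : Type*) [Field K] [Finite K] : Finite (D.SteinbergGroup K) := by
  obtain ⟨d, m, hd, hS⟩ : ∃ d m, d ≠ 0 ∧ Smith (cartanMat D) d m := by
    rcases h78 with rfl | rfl
    exacts [⟨_, _, by decide, smithE7⟩, ⟨_, _, by decide, smithE8⟩]
  have h := (isMat hD R K).card_center_st hD (torI hD R h78 K) hS
  have : Finite (th hD R K).ker := by
    rw [th, (isMat hD R K).θ_ker hD]
    exact Nat.finite_of_card_ne_zero (by rw [h]; exact pow_ne_zero _ (Nat.gcd_ne_zero_left hd))
  exact (MonoidHom.finite_iff_finite_ker_range _).2 ⟨this, inferInstance⟩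

theorem rank_le' {F : Type*} [Field F] [Finite F] {p : ℕ} [Fact p.Prime] [CharP F p] {l a : ℕ} (hl : l.Prime)
    (hlp : l ≠ p) (hW : ¬ l ^ (a + 1) ∣ Nat.card R.W) (E : Subgroup (D.SteinbergGroup F)) (hE : ∀ a ∈ E, a ^ l = 1) :
    Nat.card E ≤ l ^ (D.rank + a) := by
  have := Fact.mk hl
  obtain ⟨K, _, _, f, hK⟩ := exists_ext F p (M := l ^ (a + 1)) (((Nat.coprime_primes hl Fact.out).2 hlp).pow_left _)
    (pow_ne_zero _ hl.ne_zero)
  have := fin_st' hD R h78 K
  have hF := ES_faith hD R K
  have hT := fus_top hF (ES_R3 hD R K) (ES_top hD R K)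
  have hi := relIndex_H_modEq hF (ES_top hD R K) hK
  have h1 : ¬ l ∣ ((ES hD R K).N ⊓ ⊤).relIndex ⊤ := fun ⟨m, hm⟩ => by
    rw [← Subgroup.relIndex_mul_relIndex _ ((ES hD R K).N ⊓ ⊤) ⊤ (inf_le_inf_right _ (ES hD R K).H_le_N)
      inf_le_right, hT.relIndex_N, hm] at hi
    have h3 : ∀ n ≤ a + 1, l ^ n ∣ Nat.card R.W := fun n => by
      induction n with
      | zero => simp
      | succ n ih =>
        intro hn
        refine ((hi.of_dvd (pow_dvd_pow l hn)).dvd_iff dvd_rfl).1 ?_
        rw [pow_succ, ← mul_assoc]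
        exact (mul_dvd_mul_right (ih (by omega)) l).mul_right m
    exact hW (h3 _ le_rfl)
  have hP : IsPGroup l E := fun a => ⟨1, Subtype.ext (by simpa using hE a a.2)⟩
  obtain ⟨c, -, h⟩ := exists_conj_into (A := (ES hD R K).N ⊓ ⊤) inf_le_right le_rfl h1 (hP.map (sm R f)) le_top
  let j := ((MulAut.conj c).toMonoidHom.comp (sm R f)).comp E.subtype
  have i1 : Function.Injective j := ((MulAut.conj c).injective.comp (sm_inj' hD R h78 f)).comp E.subtype_injective
  have hj : ∀ a, j a ^ l = 1 := fun a => by rw [← map_pow, show a ^ l = 1 from Subtype.ext (hE a a.2), map_one]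
  let π : E →* R.toRS.W := hF.toW.comp (j.codRestrict _ fun u => (h _ ⟨u, u.2, rfl⟩).1)
  have h3 : Nat.card π.range ≤ l ^ a := by
    obtain ⟨m, hm⟩ := (hP.of_surjective _ π.rangeRestrict_surjective).exists_card_eq
    rw [hm]
    by_contra hlt
    exact hW ((pow_dvd_pow l (by by_contra h; exact hlt (Nat.pow_le_pow_right hl.pos (by omega)))).trans
      (hm ▸ Subgroup.card_subgroup_dvd_card π.range))
  have h4 : Nat.card π.ker ≤ l ^ D.rank := by
    have h5 : ∀ a : π.ker, ∃ x, Elts.tor (ES_R3 hD R K) x = j a := fun a => exists_tor _ (by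
      have := hF.toW_ker.le (MonoidHom.mem_ker.2 (MonoidHom.mem_ker.1 a.2))
      exact this)
    choose x hx using h5
    have h6 : ∀ a i, x a i ∈ rootsOfUnity l K := fun a i => congrFun (torI hD R h78 K (by
      rw [map_pow, hx, hj, map_one]) : x a ^ l = 1) i
    have := NeZero.of_pos hl.pos
    refine (Nat.card_le_card_of_injective (β := Fin D.rank → rootsOfUnity l K) (fun a i => ⟨x a i, h6 a i⟩)
      fun a b e => Subtype.ext (i1 ?_)).trans ?_
    · rw [← hx, ← hx, show x a = x b from funext fun i => congrArg Subtype.val (congrFun e i)]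
    · rw [Nat.card_fun, Nat.card_fin]
      exact Nat.pow_le_pow_left (card_rootsOfUnity K l) _
  rw [← π.ker.card_mul_index, Subgroup.index_ker, pow_add]
  exact Nat.mul_le_mul h4 h3

theorem exists_rt {F : Type u} [Field F] [Finite F] (p : ℕ) [Fact p.Prime] [CharP F p] {T N a : ℕ}
    (hW : ∀ l : ℕ, l.Prime → l ≠ 2 → ¬ l ^ (a + 1) ∣ Nat.card R.W)
    (ρ₀ : D.SteinbergGroup (AlgebraicClosure (ZMod p)) →* Matrix (Fin N) (Fin N) (AlgebraicClosure (ZMod p)))
    (h₀ : ∀ c, (ρ₀ (Elts.tor (ES_R3 hD R _) c)).charpoly = cpW T N c) {n : ℕ}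
    (h : AltSec (D.group F) n) : ∃ (H : Type u) (_ : Group H) (_ : Finite H)
      (ρ : H →* End (AlgebraicClosure (ZMod p)) (Fin N → AlgebraicClosure (ZMod p))) (π : H →* Equiv.Perm (Fin n)),
      RT p T N D.rank (D.rank + a) ρ ∧ (∀ h, Equiv.Perm.sign (π h) = 1) ∧
        ∀ σ, Equiv.Perm.sign σ = 1 → ∃ h, π h = σ := by
  obtain ⟨Y, φ, hφ⟩ := h
  let k := AlgebraicClosure (ZMod p)
  let := ZMod.algebra F p
  let f : F →+* k := (IsAlgClosed.lift (R := ZMod p) (S := F) (M := k)).toRingHom
  have := fin_st' hD R h78 F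
  let H := Y.comap (th hD R F)
  let j : H →* D.SteinbergGroup k := (sm R f).comp H.subtype
  have hj : Function.Injective j := (sm_inj' hD R h78 f).comp H.subtype_injective
  refine ⟨H, inferInstance, inferInstance,
    (Matrix.toLinAlgEquiv' (R := k) (n := Fin N)).toRingEquiv.toMonoidHom.comp (ρ₀.comp j),
    φ.comp ((th hD R F).subgroupComap Y), ⟨by simp, fun r hr hrp t ht h1 => ?_, fun l hl hlp h2 E _ hE => ?_⟩,
    fun h => Equiv.Perm.mem_alternatingGroup.1 (hφ.le ⟨_, rfl⟩), fun σ hσ => ?_⟩
  · obtain ⟨g, c, a1, a2, a3⟩ := conj_tor hD R h78 (locFin_of_algebraic (ZMod p) k) hr hrp (t := j t)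
      (by rw [← map_pow, ht, map_one]) fun e => h1 (hj (e.trans (map_one j).symm))
    refine ⟨c, a1, a2, (Matrix.charpoly_toLin' _).trans ?_⟩
    rw [← h₀, a3, map_mul, map_mul, Matrix.charpoly_mul_comm, ← mul_assoc, ← map_mul, mul_inv_cancel, map_one, one_mul]
    rfl
  · rw [← Subgroup.card_map_of_injective H.subtype_injective]
    refine rank_le' hD R h78 hl hlp (hW l hl h2) _ ?_
    rintro _ ⟨a, ha, rfl⟩
    rw [← map_pow, hE a ha, map_one]
  · obtain ⟨y, rfl⟩ := hφ.ge (Equiv.Perm.mem_alternatingGroup.2 hσ)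
    obtain ⟨x, hx⟩ := (isMat hD R F).θ_surjective y
    exact ⟨⟨x, show th hD R F x ∈ Y from hx ▸ y.2⟩, congrArg φ (Subtype.ext hx)⟩

end Gen

lemma t8 : chevE8 ∈ Tabs := by simp

/-- Cartan integers of `E₈`. -/
def T8 : ℕ := 0x81808080808080807f81808080808080807f81808080808080807f81808080808080807f81808080808080807f81818080808080807f81818080808080817f8080808080817f7f81808080817f8080818080817f8080808180817f8080808081817f8080808080817f80808080808081808080808080817f8080808081807f7f808080817f81807f8080817f8081807f80817f808081807f817f80808081807f7f8080808081807f80808081807f80808080817f817f808080817f80817f8080817f8080817f80807f808080817f8080808081807f80818080817f817f808180817f80817f8081807f8080817f8081808081807f80808180817f817f808081807f80817f8080818081807f80808081807f817f8080808180807f8080808081808080818080807f8080817f8180807f80817f808180807f807f80808180807f808081807f81807f80817f817f81807f807f80817f81807f8081807f8081807f807f817f8081807f80807f808081807f80808180807f818080817f81807f8180807f8081807f8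1808081807f817f8180807f817f817f818080807f80817f8180808180807f808180807f81807f80818080807f817f8081808080807f808081808080818080807f8081817f8180807f80817f808180807f808181807f81807f80817f817f81807f8081807f8081807f80818180807f817f80817f81807f817f8081807f817f817f808180807f80817f8081818080807f8081817f8180807f808181807f81807f80818180807f817f8081818080807f808081818180808080807f817f81808080807f81807f818080807f8180807f8180807f818080807f81807f81808080807f81808180808080807f8082808180808080807f817f81808080807f7f8081808080807f81807f818080807f7f817f818080807f807f80818080807f8180807f8180807f7f81807f8180807f807f817f8180807f80807f808180807f818080807f81817f7f8180807f81817f807f81807f81817f80807f817f81817f8080807f8081817f81808080807f81807f818080807f8180807f8180807f818080807f81807f81808080807f817f8180808080807f8082808180808080817f7f7f81808080817f7f807f818080817f7f80807f8180817f7f8080807f81817f7f808080807f82807f81808080817f7f807f818080817f7f80807f8180817f7f8080807f81817f7f808080807f827f7f80818080817f8080807f8180817f8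08080807f81817f80808080807f827f8080808180817f808080807f81817f80808080807f827f8080808081817f80808080807f827f8080808080827f8080808080807e81808080808080817e8180808080807f7f81808080808080817e8180808080817f7f81808080807f807f81808080808080817e8180808080817f7f81808080817f807f818080807f80807f81808080808080817e8181808080817f7f81818080817f807f818180817f80807f8181807f8080807f81818080808080817e8081808080817f7f81818080817f807f818180817f80807f8181817f8080807f81817f808080807f81818080808081807e80808080817f817f808080817f80817f8080817f8080817f80817f808080817f807f80808080817f8080808081807f7f818080817f817f7f8180817f80817f7f81817f8080817f7f817f808080817f7f81808081807f80808180817f817f808081817f80817f8080817f8080817f8080818081807f80808081817f817f808080817f80817f8080808181807f80808080817f817f8080808081807f808080808081808080808081807e80808080817f807f808080817f80817f8080817f8080817f80817f808080817f817f80808080817f7f8080808080817f8080808180807f7f8080817f81807f7f80817f8081807f7f817f808081807f7f7f80808081807f7f808081807f8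1807f80817f817f81807f817f80817f81807f7f8080817f81807f8081807f8081807f817f817f8081807f7f80817f8081807f81807f808081807f7f817f808081807f807f80808081807f80808180807f808080817f81807f8080817f8081807f80807f808081807f80808081807f817f8080817f817f817f80807f80817f817f808081807f80817f80807f817f80817f8080807f8080817f8080808180807f808180817f81807f8081807f8081807f80818081807f817f8081807f817f817f808180807f80817f8081808180807f808081807f81807f80808180807f817f8080818080807f80808081808081808080807f80817f818080807f807f80818080807f8081807f8180807f807f817f8180807f80807f808180807f808180807f81807f807f81807f81807f80807f817f81807f8080807f8081807f80818080807f8180807f8180807f818080807f81807f81808080807f817f8180808080807f8081808081808080807f80817f818080807f8081807f8180807f808180807f81807f80818080807f817f8081808080807f8081818080808080807f81818080808080807f7f8180808080807f807f81808080807f80807f818080807f8080807f8180807f808080807f81817f80808080807f81808080808080817f7f80808080817f7f80808080817f8080808080817f8080808080817f8080808080817f8080808080807f80808080808080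

/-- The weights of the 56-dimensional module. -/
def T56 : ℕ := 0x818080808080807f818080808080807f818080808080807f818080808080807f818180808080807f818180808080817f80808080817f7f818080817f80808180817f80808081817f80808080817f8080808080818080808080817f80808081807f7f8080817f81807f80817f8081807f817f808081807f7f80808081807f808081807f808080817f817f8080817f80817f80807f8080817f80808081807f808180817f817f8081807f80817f80818081807f808081807f817f80808180807f808080818080818080807f80817f8180807f807f808180807f8081807f81807f807f817f81807f80807f8081807f808180807f8180807f81807f818080807f817f81808080807f80818080818080807f80817f8180807f8081807f81807f808180807f817f80818080807f80818180808080807f818180808080807f7f81808080807f807f818080807f80807f8180807f8080807f81817f808080807f818080808080817f7f808080817f7f808080817f80808080817f80808080817f80808080807f808080808080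

/-- The weights of the adjoint module. -/
def T248 : ℕ := T8 * 256 ^ 64 + (256 ^ 64 - 1) / 255 * 128

lemma T8_ok : ctChk chevE8 T8 = true := by decide +kernel

lemma wt8 (s : Fin chevE8.nroots) (i : Fin chevE8.rank) : rsE8.toRS.wt s i = lam T8 (8 * s + i) := by
  rw [← rsE8.cartan_eq]; exact ctChk_spec T8_ok i s

/-- The roots of `E₈` with last coefficient one. -/
def ix8 (a : ℕ) : ℕ := byt 0xeeedecebeae9e8e7e6e5e4e3e1e0dfdedddcdad9d8d7d5d4d3d1d0cecbcac9c7c6c4c1c0bebbb7b6b4b1ada8a1a09e9b97928c86817d7a78 a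

lemma ix8_lt : ∀ a : Fin 56, ix8 a < chevE8.nroots := by decide +kernel

/-- The indices of the block. -/
def e56 (a : Fin 56) : chevE8.Idx := Sum.inr ⟨ix8 a, ix8_lt a⟩

lemma e56_inj : Function.Injective e56 := fun a b e => by
  have h : ∀ a b : Fin 56, ix8 a = ix8 b → a = b := by decide +kernel
  exact h a b (congrArg Fin.val (Sum.inr_injective e))

/-- The cocharacter defining the grading. -/
def vv8 (i : ℕ) : ℤ := [2, 3, 4, 6, 5, 4, 3, 2].getD i 0

/-- The grading. -/
def gr8 (s : ℕ) : ℤ := sumLt 8 fun i => vv8 i * lam T8 (8 * s + i)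

lemma gr8_ix : ∀ a : Fin 56, gr8 (ix8 a) = 1 := by decide +kernel

lemma gr8_rho : ∀ r : Fin chevE7.nroots, gr8 (rho78 r) = 0 := by decide +kernel

lemma gr8_all : ∀ s : Fin chevE8.nroots, 1 - gr8 s ∣ 6 ∨ ∃ a : Fin 56, ix8 a = s := by decide +kernel

lemma wt8_ix : ∀ (a : Fin 56) (i : Fin 7), lam T8 (8 * ix8 a + i) = lam T56 (7 * a + i) := by decide +kernel

variable (k : Type*) [Field k]

lemma chi_gr8 (μ : kˣ) (s : Fin chevE8.nroots) :
    ∏ i : Fin chevE8.rank, (μ ^ vv8 i) ^ rsE8.toRS.wt s i = μ ^ gr8 s := by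
  simp only [← zpow_mul, wt8]
  rw [gr8, sumLt_eq]
  exact (map_prod (zpowersHom kˣ μ) (fun i : Fin 8 => Multiplicative.ofAdd (vv8 i * lam T8 (8 * s + i))) _).symm

/-- The homomorphism to the group of type `E₈`. -/
noncomputable def phi7 : chevE7.SteinbergGroup k →* chevE8.group k :=
  ((isMat t8 rsE8 k).grpRel.comap rsE7 emb78).lift rsE7 ((isMat t8 rsE8 k).grpRel.comap_R3 rsE7 emb78
    ((isMat t8 rsE8 k).grpRel_toPre ▸ (isMat t8 rsE8 k).grp_R3))

lemma phi7_gen {r : ℕ} (hr : r < chevE7.nroots) (t : k) :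
    phi7 k (chevE7.stGen k r t) = (EG t8 rsE8 k).x ⟨rho78 r, emb78.lt r hr⟩ t :=
  (StRel.lift_stGen _ _ _ hr t).trans ((isMat t8 rsE8 k).grpRel_x ⟨rho78 r, emb78.lt r hr⟩ t)

lemma phi7_tor (c : Fin chevE7.rank → kˣ) :
    phi7 k (Elts.tor (ES_R3 t7 rsE7 k) c) = Elts.tor (EG_R3 t8 rsE8 k) (extOne c) := by
  have hφ : PreElts.IsHom (ES t7 rsE7 k).toPreElts (((isMat t8 rsE8 k).grpRel.comap rsE7 emb78).toPre rsE7) (phi7 k) :=
    fun r t => StRel.lift_stGen _ _ _ r.2 t
  have hl : chevE7.rank ≤ chevE8.rank := by decide +kernel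
  induction c using Pi.mulSingle_induction with
  | one => simp
  | mul c d h1 h2 => rw [map_mul, map_mul, map_mul, map_mul, h1, h2]
  | mulSingle i c =>
    rw [Elts.tor_single, extOne_single hl, Elts.tor_single, hφ.h, StRel.comap_h _ rsE7 rsE8,
      (isMat t8 rsE8 k).grpRel_toPre]
    congr 1
    exact Fin.ext (by rw [rsE8.sim_eq]; exact (congrArg rho78 (rsE7.sim_eq i)).trans (rho78_simple i i.2))

/-- The matrices of the adjoint group. -/
noncomputable def mat8 : chevE8.group k →* Matrix chevE8.Idx chevE8.Idx k :=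
  (Units.coeHom _).comp (chevE8.group k).subtype

lemma mat8_tor (c : Fin chevE8.rank → kˣ) : mat8 k (Elts.tor (EG_R3 t8 rsE8 k) c) =
      Matrix.diagonal (Sum.elim (fun _ => 1) fun s => ((∏ i, c i ^ rsE8.toRS.wt s i : kˣ) : k)) := by
  rw [← (isMat t8 rsE8 k).coe_tor]
  exact congrArg Units.val (Elts.map_tor (isMat t8 rsE8 k).grp_isHom (EG_R3 t8 rsE8 k) _ c)

lemma phi7_blk [Infinite k] (g : chevE7.SteinbergGroup k) (a : Fin 56) (j : chevE8.Idx) (hj : j ∉ Set.range e56) :
    (mat8 k).comp (phi7 k) g (e56 a) j = 0 := by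
  obtain ⟨μ, h0, h4⟩ : ∃ μ : k, μ ≠ 0 ∧ μ ^ 6 ≠ 1 := by
    classical
    obtain ⟨μ, h⟩ := Infinite.exists_notMem_finset (insert 0 (nthRoots 6 (1 : k)).toFinset)
    simp only [Finset.mem_insert, Multiset.mem_toFinset, mem_nthRoots (show 0 < 6 by decide), not_or] at h
    exact ⟨μ, h⟩
  let m := Units.mk0 μ h0
  let d := Elts.tor (EG_R3 t8 rsE8 k) fun i => m ^ vv8 i
  have h1 : (MulAut.conj d).toMonoidHom.comp (phi7 k) = phi7 k := st_hom_ext fun r hr t => by
    rw [MonoidHom.comp_apply, phi7_gen k hr, MulEquiv.coe_toMonoidHom, MulAut.conj_apply, Elts.tor_conj_x, chi_gr8,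
      gr8_rho ⟨r, hr⟩, zpow_zero, Units.val_one, one_mul]
  have h2 : d * phi7 k g = phi7 k g * d := mul_inv_eq_iff_eq_mul.1 (DFunLike.congr_fun h1 g)
  have h3 := congrFun (congrFun (congrArg (mat8 k) h2) (e56 a)) j
  simp only [map_mul, d, mat8_tor, Matrix.diagonal_mul, Matrix.mul_diagonal, chi_gr8, e56, Sum.elim_inr, gr8_ix] at h3
  by_contra h5
  rw [mul_comm] at h3
  have h6 := mul_left_cancel₀ h5 h3
  obtain ⟨z, ⟨y, hy⟩, h7⟩ : ∃ z : ℤ, 1 - z ∣ 6 ∧ m ^ (1 : ℤ) = m ^ z := by
    rcases j with j | j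
    · exact ⟨0, by decide, (Units.ext h6).trans (zpow_zero m).symm⟩
    · rcases gr8_all j with h | ⟨b, h⟩
      · exact ⟨_, h, Units.ext h6⟩
      · exact absurd ⟨b, congrArg Sum.inr (Fin.ext h)⟩ hj
  refine h4 (congrArg Units.val (show m ^ 6 = 1 from ?_))
  rw [← zpow_natCast, show ((6 : ℕ) : ℤ) = (1 - z) * y from hy, zpow_mul, zpow_sub, h7, mul_inv_cancel, one_zpow]

lemma rho7_tor [Infinite k] (c : Fin chevE7.rank → kˣ) :
    (blk _ e56 e56_inj (phi7_blk k) (Elts.tor (ES_R3 t7 rsE7 k) c)).charpoly = cpW T56 56 c := by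
  have : (mat8 k (phi7 k (Elts.tor (ES_R3 t7 rsE7 k) c))).submatrix e56 e56 =
      Matrix.diagonal fun a : Fin 56 => ((∏ j : Fin 7, c j ^ lam T56 (7 * a + j) : kˣ) : k) := by
    rw [phi7_tor, mat8_tor, Matrix.submatrix_diagonal _ _ e56_inj]
    congr 1
    funext a
    simp only [Function.comp_apply, e56, Sum.elim_inr, wt8]
    congr 1
    refine (Fin.prod_univ_castSucc (n := 7) _).trans ?_
    refine (mul_eq_left.2 (one_zpow _)).trans ?_
    exact Finset.prod_congr rfl fun j _ => by rw [← wt8_ix]; exact congrArg (· ^ _) (dif_pos j.2)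
  exact (congrArg Matrix.charpoly this).trans (Matrix.charpoly_diagonal _)

lemma nr8 : chevE8.nroots = 240 := by decide +kernel

/-- The indices of the adjoint module. -/
def e248 (a : Fin 248) : chevE8.Idx :=
  if h : (a : ℕ) < 8 then Sum.inl ⟨a, h⟩ else Sum.inr ⟨a - 8, by rw [nr8]; omega⟩

lemma e248_inj : Function.Injective e248 := fun a b e => by
  unfold e248 at e
  split_ifs at e with h1 h2
  · have := congrArg Fin.val (Sum.inl_injective e)
    exact Fin.ext this
  · have := congrArg Fin.val (Sum.inr_injective e)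
    exact Fin.ext (by simp only at this; omega)

lemma e248_surj (j : chevE8.Idx) : j ∈ Set.range e248 := by
  rcases j with j | j
  · exact ⟨⟨j, lt_trans j.2 (by decide : 8 < 248)⟩, dif_pos j.2⟩
  · exact ⟨⟨j + 8, by have := j.2.trans_eq nr8; omega⟩, dif_neg (by simp)⟩

lemma T248_ok : ∀ (a : Fin 248) (j : Fin 8),
    lam T248 (8 * a + j) = if (a : ℕ) < 8 then 0 else lam T8 (8 * (a - 8) + j) := by decide +kernel

lemma rho8_tor (c : Fin chevE8.rank → kˣ) : (blk ((mat8 k).comp (th t8 rsE8 k)) e248 e248_inj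
    (fun _ _ j h => absurd (e248_surj j) h) (Elts.tor (ES_R3 t8 rsE8 k) c)).charpoly = cpW T248 248 c := by
  have : (mat8 k (th t8 rsE8 k (Elts.tor (ES_R3 t8 rsE8 k) c))).submatrix e248 e248 =
      Matrix.diagonal fun a : Fin 248 => ((∏ j : Fin 8, c j ^ lam T248 (8 * a + j) : kˣ) : k) := by
    rw [th_tor, mat8_tor, Matrix.submatrix_diagonal _ _ e248_inj]
    congr 1
    funext a
    simp only [Function.comp_apply, e248, T248_ok]
    split_ifs
    · simp
    · simp only [Sum.elim_inr, wt8]; rfl
  exact (congrArg Matrix.charpoly this).trans (Matrix.charpoly_diagonal _)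

lemma not_dvd {l a N : ℕ} (hl : l.Prime) (h2 : l ≠ 2) (h0 : 0 < N) (h : N < 64 ^ (a + 1))
    (h' : ∀ l < 64, l ^ (a + 1) ∣ N → l = 1 ∨ l = 2 ∨ l = 4) : ¬ l ^ (a + 1) ∣ N := fun e => by
  rcases h' l (lt_of_pow_lt_pow_left₀ _ (by decide) ((Nat.le_of_dvd h0 e).trans_lt h)) e with rfl | rfl | rfl
  exacts [absurd hl (by decide), h2 rfl, absurd hl (by decide)]

theorem exists_r56 {F : Type u} [Field F] [Finite F] (p : ℕ) [Fact p.Prime] [CharP F p] {n : ℕ}
    (h : AltSec (chevE7.group F) n) : ∃ (H : Type u) (_ : Group H) (_ : Finite H)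
      (ρ : H →* End (AlgebraicClosure (ZMod p)) (Fin 56 → AlgebraicClosure (ZMod p))) (π : H →* Equiv.Perm (Fin n)),
      RT p T56 56 7 11 ρ ∧ (∀ h, Equiv.Perm.sign (π h) = 1) ∧ ∀ σ, Equiv.Perm.sign σ = 1 → ∃ h, π h = σ :=
  exists_rt t7 rsE7 (.inl rfl) p (a := 4) (fun l hl h2 => by
    rw [H39.cardWE7]; exact not_dvd hl h2 (by decide) (by decide) (by decide +kernel)) _ (rho7_tor _) h

theorem exists_r248 {F : Type u} [Field F] [Finite F] (p : ℕ) [Fact p.Prime] [CharP F p] {n : ℕ}
    (h : AltSec (chevE8.group F) n) : ∃ (H : Type u) (_ : Group H) (_ : Finite H)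
      (ρ : H →* End (AlgebraicClosure (ZMod p)) (Fin 248 → AlgebraicClosure (ZMod p))) (π : H →* Equiv.Perm (Fin n)),
      RT p T248 248 8 13 ρ ∧ (∀ h, Equiv.Perm.sign (π h) = 1) ∧ ∀ σ, Equiv.Perm.sign σ = 1 → ∃ h, π h = σ :=
  exists_rt t8 rsE8 (.inr rfl) p (a := 5) (fun l hl h2 => by
    rw [H39.cardWE8]; exact not_dvd hl h2 (by decide) (by decide) (by decide +kernel)) _ (rho8_tor _) h

end H5.AE
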